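import Cfsg.Agent.H770.CY.Defs
import Cfsg.Agent.H493.RatB.WitS

/-!
# S4829, sporadic groups and the Tits group: the interface (helper629)

`WitC p S` : for every `p`-modular ideal there is a nontrivial `ℚ(ζ_p)`-valued irreducible character of degree prime to `p`
in the principal `p`-block of `S`.   `WitO p S` : the same with ODD degree.

* `|Out S| = 1` : `WitC p S → RowA p S`;
* `|Out S| = 2`, `p` odd : `WitO p S → RowA p S` (no invariance needed: see `H629/CY/Core.lean`).
-/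

set_option autoImplicit false

namespace Cfsg.Agent.H629.CY

open Cfsg Cfsg.Agent.H770.CY

universe u

/-- a nontrivial `ℚ(ζ_p)`-valued character of degree prime to `p` in the principal block -/
def WitC (p : ℕ) (S : Type u) [Group S] : Prop := ∀ M : Ideal AlgInt, IsPModular p M → ∃ θ : IrrCharacter S,
  θ ∈ principalBlock M S ∧ (θ : S → ℂ) ≠ (fun _ => 1) ∧ ¬ p ∣ charDegree (θ : S → ℂ) ∧ Cyc p (θ : S → ℂ)

/-- a nontrivial `ℚ(ζ_p)`-valued character of ODD degree prime to `p` in the principal block -/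
def WitO (p : ℕ) (S : Type u) [Group S] : Prop := ∀ M : Ideal AlgInt, IsPModular p M → ∃ θ : IrrCharacter S,
  θ ∈ principalBlock M S ∧ (θ : S → ℂ) ≠ (fun _ => 1) ∧ ¬ p ∣ charDegree (θ : S → ℂ) ∧ Odd (charDegree (θ : S → ℂ)) ∧
    Cyc p (θ : S → ℂ)

/-- the same with rational values -/
def WitOR (p : ℕ) (S : Type u) [Group S] : Prop := ∀ M : Ideal AlgInt, IsPModular p M → ∃ θ : IrrCharacter S,
  θ ∈ principalBlock M S ∧ (θ : S → ℂ) ≠ (fun _ => 1) ∧ ¬ p ∣ charDegree (θ : S → ℂ) ∧ Odd (charDegree (θ : S → ℂ)) ∧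
    H493.RatB.RatV (θ : S → ℂ)

theorem WitO.witC {p : ℕ} {S : Type u} [Group S] (h : WitO p S) : WitC p S := fun M hM => by
  obtain ⟨θ, h1, h2, h3, -, h5⟩ := h M hM
  exact ⟨θ, h1, h2, h3, h5⟩

end Cfsg.Agent.H629.CY
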