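import Cfsg.Agent.H629.CY.Two
import Cfsg.Agent.H684.Principal

/-!
# S4829: one odd character of `S` is enough when `|Out S| ≤ 2` (helper629)

`WitO.rowA` : `S` simple nonabelian, `|Out S| ≤ 2`, `p` odd, `WitO p S`: the row `RowA p S`. No invariance under the outer
automorphisms is needed.
-/

set_option autoImplicit false

namespace Cfsg.Agent.H629.CY

open Cfsg Subgroup Cfsg.Agent.H770.CY Cfsg.Agent.Characters.Core Cfsg.Agent.Blocks
open scoped ComplexConjugate commutatorElement

universe u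

/-- **the values of the characters of the principal block at the elements centralizing a Sylow subgroup** -/
theorem value_of_mem {G : Type u} [Group G] [Finite G] {p : ℕ} [Fact p.Prime] {M : Ideal AlgInt} (hM : IsPModular p M)
    {χ : IrrCharacter G} (hχ : χ ∈ principalBlock M G) {g : G} (hg : ¬ p ∣ (centralizer ({g} : Set G)).index) :
    MemLocalIdeal M ((χ : G → ℂ) g - (χ : G → ℂ) 1) := by
  have hprime : M.IsPrime := Blocks.Local.isPrime_of_isPModular hM
  have h1 : MemLocalIdeal M (centralChar (fun _ : G => (1 : ℂ)) g - centralChar (χ : G → ℂ) g) := hχ g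
  have hdeg := Blocks.Basic.irr_one_eq_charDegree χ.2
  have hd0 : (χ : G → ℂ) 1 ≠ 0 := Blocks.Basic.irr_one_ne_zero χ.2
  rw [Blocks.LocalRing.memLocalIdeal_sub_comm]
  apply H684.Principal.memLocalIdeal_of_mul hM hg
  have e1 : ((centralizer ({g} : Set G)).index : ℂ) * ((χ : G → ℂ) 1 - (χ : G → ℂ) g) =
      (charDegree (χ : G → ℂ) : ℂ) * (centralChar (fun _ : G => (1 : ℂ)) g - centralChar (χ : G → ℂ) g) := by
    rw [Blocks.Basic.centralChar_def, Blocks.Basic.centralChar_def, ← hdeg]
    field_simp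
  rw [e1]
  exact Blocks.LocalRing.memLocalIdeal_mul_left hM (Blocks.LocalRing.memLocalRing_natCast hM _) h1

/-- **over a subgroup of index two** -/
theorem exists_good {W : Type u} [Group W] [Finite W] (D : Subgroup W) [hDn : D.Normal] (hD : D.index = 2)
    (hperf : commutator D = ⊤) {p : ℕ} [hp : Fact p.Prime] (hp2 : p ≠ 2) {M : Ideal AlgInt} (hM : IsPModular p M)
    {θ : IrrCharacter D} (hθ : θ ∈ principalBlock M D) (hd : ¬ p ∣ charDegree (θ : D → ℂ)) (hc : Cyc p (θ : D → ℂ))
    (hodd : Odd (charDegree (θ : D → ℂ))) {w : W} (hw : w ∉ D) :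
    ∃ χ : IrrCharacter W, χ ∈ principalBlock M W ∧ ¬ p ∣ charDegree (χ : W → ℂ) ∧ Cyc p (χ : W → ℂ) ∧
      ((∀ d : D, (χ : W → ℂ) d = (θ : D → ℂ) d) ∨
        ((θ : D → ℂ) ∘ (MulAut.conjNormal w : MulAut D) ≠ (θ : D → ℂ) ∧
          ∀ d : D, (χ : W → ℂ) d = (θ : D → ℂ) d + (θ : D → ℂ) (MulAut.conjNormal w d))) := by
  have := Fintype.ofFinite W
  have := Fintype.ofFinite D
  obtain ⟨P⟩ : Nonempty (Sylow p W) := inferInstance
  obtain ⟨χ, hχ, h0⟩ := H656.OverPrincipal.exists_over hM D P (by rw [normalizer_eq_top]; exact le_top) θ hθ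
  have hdeg : (χ : W → ℂ) 1 = ((charDegree (χ : W → ℂ) : ℕ) : ℂ) := Blocks.Basic.irr_one_eq_charDegree χ.2
  have hdegθ : (θ : D → ℂ) 1 = ((charDegree (θ : D → ℂ) : ℕ) : ℂ) := Blocks.Basic.irr_one_eq_charDegree θ.2
  by_cases hv : ∀ x, x ∉ D → (χ : W → ℂ) x = 0
  · obtain ⟨hne, hres⟩ := res_of_vanish D hD h0 hv hw
    refine ⟨χ, hχ, ?_, ?_, Or.inr ⟨hne, hres⟩⟩
    · have h1 := hres 1
      rw [map_one, OneMemClass.coe_one, hdeg, hdegθ] at h1
      have h2 : charDegree (χ : W → ℂ) = 2 * charDegree (θ : D → ℂ) := by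
        have h3 : ((charDegree (χ : W → ℂ) : ℕ) : ℂ) = ((2 * charDegree (θ : D → ℂ) : ℕ) : ℂ) := by
          rw [h1]; push_cast; ring
        exact_mod_cast h3
      rw [h2]
      intro h3
      rcases hp.out.dvd_mul.1 h3 with h4 | h4
      · exact hp2 ((Nat.prime_dvd_prime_iff_eq hp.out Nat.prime_two).1 h4)
      · exact hd h4
    · intro k hk hkp g
      have hkD : k.Coprime (Nat.card D) := hk.coprime_dvd_right (card_subgroup_dvd_card D)
      by_cases hg : g ∈ D
      · have h1 := hres ⟨g, hg⟩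
        have h2 := hres (⟨g, hg⟩ ^ k)
        rw [map_pow, hc k hkD hkp, hc k hkD hkp, ← h1] at h2
        exact h2
      · have hk2 : Odd k := by
          have h1 : 2 ∣ Nat.card W := ⟨Nat.card D, by rw [← D.card_mul_index, hD, mul_comm]⟩
          exact (Nat.coprime_two_right.1 (hk.coprime_dvd_right h1))
        have h2 : g ^ k ∉ D := by
          obtain ⟨j, rfl⟩ := hk2
          rw [pow_succ, mul_mem_iff_of_index_two hD]
          have h3 : g ^ (2 * j) ∈ D := by
            rw [pow_mul]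
            apply pow_mem
            rw [← hD]
            exact D.pow_index_mem g
          simp [h3, hg]
        rw [hv _ h2, hv _ hg]
  · push Not at hv
    obtain ⟨x, hx, hx0⟩ := hv
    have hres := res_of_not_vanish D hD h0 hx hx0
    refine ⟨χ, hχ, ?_, cyc_of_odd D hD hperf hres hodd hc, Or.inl hres⟩
    have h1 := hres 1
    rw [OneMemClass.coe_one, hdeg, hdegθ] at h1
    have h2 : charDegree (χ : W → ℂ) = charDegree (θ : D → ℂ) := by exact_mod_cast h1
    rw [h2]
    exact hd

/-! ### the group `A` of automorphisms -/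

section aut

variable {S : Type u} [Group S] {A : Subgroup (MulAut S)}

/-- the inner automorphisms in `A` -/
def inn (hA : ∀ s : S, MulAut.conj s ∈ A) : S →* A := (MulAut.conj : S →* MulAut S).codRestrict A hA

theorem inn_injective (hA : ∀ s : S, MulAut.conj s ∈ A) (hz : center S = ⊥) : Function.Injective (inn hA) := by
  rw [injective_iff_map_eq_one]
  intro s hs
  have h1 : MulAut.conj s = 1 := congrArg Subtype.val hs
  have h2 : s ∈ center S := by
    rw [mem_center_iff]
    intro x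
    have h3 := DFunLike.congr_fun h1 x
    rw [MulAut.conj_apply, MulAut.one_apply] at h3
    have h4 : s * x = x * s := by
      calc s * x = s * x * s⁻¹ * s := by group
        _ = x * s := by rw [h3]
    exact h4.symm
  rw [hz] at h2
  exact h2

theorem conj_inn (hA : ∀ s : S, MulAut.conj s ∈ A) (a : A) (s : S) : a * inn hA s * a⁻¹ = inn hA ((a : MulAut S) s) := by
  apply Subtype.ext
  show (a : MulAut S) * MulAut.conj s * (a : MulAut S)⁻¹ = MulAut.conj ((a : MulAut S) s)
  ext x
  simp [MulAut.mul_apply, MulAut.conj_apply]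

/-- **a good character of `A` is a witness** -/
theorem witA_of_good [Fintype S] {p : ℕ} [hp : Fact p.Prime] {M : Ideal AlgInt} (hM : IsPModular p M)
    (hA : ∀ s : S, MulAut.conj s ∈ A) (hz : center S = ⊥) (hidx : ¬ p ∣ (inn hA).range.index) {χ : IrrCharacter A}
    (h1 : χ ∈ principalBlock M A) (h2 : ¬ p ∣ charDegree (χ : A → ℂ)) (h3 : Cyc p (χ : A → ℂ))
    (h4 : ∀ θ : IrrCharacter S, classInner (fun s => (χ : A → ℂ) (inn hA s)) (θ : S → ℂ) = 0 ∨
      (classInner (fun s => (χ : A → ℂ) (inn hA s)) (θ : S → ℂ) = 1 ∧ (θ : S → ℂ) ≠ (fun _ => 1) ∧ Cyc p (θ : S → ℂ))) :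
    WitA p M S A hA (χ : A → ℂ) where
  char := isIrr_isCharacter χ.2
  cyc := h3
  deg := ⟨_, Blocks.Basic.irr_one_eq_charDegree χ.2, h2⟩
  mf := h4
  loc a _ hQ := by
    obtain ⟨Q, hQ⟩ := hQ
    apply value_of_mem hM h1
    intro h5
    have h6 : (Q : Subgroup S).map (inn hA) ≤ centralizer ({a} : Set A) := by
      rintro _ ⟨x, hx, rfl⟩
      rw [mem_centralizer_singleton_iff]
      have h7 := conj_inn hA a x
      rw [hQ x hx] at h7
      calc inn hA x * a = a * inn hA x * a⁻¹ * a := by rw [h7]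
        _ = a * inn hA x := by group
    have h7 := h5.trans (index_dvd_of_le h6)
    rw [index_map_of_injective (Q : Subgroup S) (inn_injective hA hz)] at h7
    rcases hp.out.dvd_mul.1 h7 with h8 | h8
    · exact Q.not_dvd_index h8
    · exact hidx h8

theorem inner_cases [Fintype S] {θ θ' : S → ℂ} (h : IsIrrCharacter S θ) (h' : IsIrrCharacter S θ') :
    (classInner θ θ' = 0 ∧ θ ≠ θ') ∨ (classInner θ θ' = 1 ∧ θ = θ') := by
  by_cases he : θ = θ'
  · right
    subst he
    exact ⟨classInner_irr_self h, rfl⟩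
  · left
    exact ⟨classInner_irr_ne h h' he, he⟩

theorem charDegree_comp {T : Type u} [Group T] (e : S ≃* T) (χ : T → ℂ) :
    charDegree (fun x : S => χ (e x)) = charDegree χ := by
  rw [Blocks.Basic.charDegree_def, Blocks.Basic.charDegree_def, map_one]

theorem Cyc.comp {T : Type u} [Group T] (e : S ≃* T) {p : ℕ} {χ : T → ℂ} (h : Cyc p χ) :
    Cyc p (fun x : S => χ (e x)) := by
  intro k hk hkp g
  show χ (e (g ^ k)) = χ (e g)
  rw [map_pow]
  exact h k (by rwa [← Nat.card_congr e.toEquiv]) hkp _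

theorem ne_one_comp {T : Type u} [Group T] (e : S ≃* T) {χ : T → ℂ} (h : χ ≠ fun _ => 1) :
    (fun x : S => χ (e x)) ≠ fun _ => 1 := fun h5 => h (by
  funext y
  obtain ⟨x, rfl⟩ := e.surjective y
  exact congrFun h5 x)

/-- all automorphisms in `A` are inner -/
theorem witA_of_inner [Fintype S] {p : ℕ} [hp : Fact p.Prime] {M : Ideal AlgInt} (hM : IsPModular p M)
    (hA : ∀ s : S, MulAut.conj s ∈ A) (hz : center S = ⊥) (hs : Function.Surjective (inn hA)) {θ : IrrCharacter S}
    (h1 : θ ∈ principalBlock M S) (h2 : (θ : S → ℂ) ≠ fun _ => 1) (h3 : ¬ p ∣ charDegree (θ : S → ℂ))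
    (h4 : Cyc p (θ : S → ℂ)) : ∃ Ψ : A → ℂ, WitA p M S A hA Ψ := by
  have : Finite (MulAut S) := inferInstance
  let e : S ≃* A := MulEquiv.ofBijective (inn hA) ⟨inn_injective hA hz, hs⟩
  have he : ∀ s, e s = inn hA s := fun s => rfl
  set χ : IrrCharacter A := ⟨_, isIrr_comp (e.symm : A →* S) e.symm.surjective θ.2⟩ with hχ
  have hres : (fun s => (χ : A → ℂ) (inn hA s)) = (θ : S → ℂ) := by
    funext s
    show (θ : S → ℂ) (e.symm (inn hA s)) = _
    rw [← he, e.symm_apply_apply]
  have hidx : (inn hA).range = ⊤ := MonoidHom.range_eq_top.2 hs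
  refine ⟨χ, witA_of_good hM hA hz ?_ (H493.RatB.mem_principalBlock_comp e.symm h1) ?_ ?_ fun θ' => ?_⟩
  · rw [hidx, index_top]
    exact hp.out.not_dvd_one
  · show ¬ p ∣ charDegree (fun x : A => (θ : S → ℂ) (e.symm x))
    rwa [charDegree_comp]
  · exact Cyc.comp e.symm h4
  · rw [hres]
    rcases inner_cases θ.2 θ'.2 with h | h
    · exact Or.inl h.1
    · refine Or.inr ⟨h.1, ?_, ?_⟩
      · rw [← h.2]; exact h2
      · rw [← h.2]; exact h4

/-- `A` contains the inner automorphisms with index two -/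
theorem witA_of_two [Fintype S] (hperf : commutator S = ⊤) {p : ℕ} [hp : Fact p.Prime] (hp2 : p ≠ 2) {M : Ideal AlgInt}
    (hM : IsPModular p M) (hA : ∀ s : S, MulAut.conj s ∈ A) (hz : center S = ⊥) (hi : (inn hA).range.index = 2)
    {θ : IrrCharacter S} (h1 : θ ∈ principalBlock M S) (h2 : (θ : S → ℂ) ≠ fun _ => 1)
    (h3 : ¬ p ∣ charDegree (θ : S → ℂ)) (h4 : Cyc p (θ : S → ℂ)) (h5 : Odd (charDegree (θ : S → ℂ))) :
    ∃ Ψ : A → ℂ, WitA p M S A hA Ψ := by
  have : Finite (MulAut S) := inferInstance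
  let e : S ≃* (inn hA).range := MonoidHom.ofInjective (inn_injective hA hz)
  have he : ∀ s, ((e s : (inn hA).range) : A) = inn hA s := fun s => rfl
  have hN : (inn hA).range.Normal := normal_of_index_eq_two hi
  have hperfD : commutator (inn hA).range = ⊤ := by
    rw [commutator_def] at hperf ⊢
    have h6 : (⊤ : Subgroup (inn hA).range) = (⊤ : Subgroup S).map e.toMonoidHom :=
      (Subgroup.map_top_of_surjective _ e.surjective).symm
    rw [h6, ← Subgroup.map_commutator, hperf]
  set θD : IrrCharacter (inn hA).range := ⟨_, isIrr_comp (e.symm : (inn hA).range →* S) e.symm.surjective θ.2⟩ with hθD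
  have hθe : ∀ s, (θD : (inn hA).range → ℂ) (e s) = (θ : S → ℂ) s := fun s => by
    show (θ : S → ℂ) (e.symm (e s)) = _
    rw [e.symm_apply_apply]
  obtain ⟨w, hw⟩ : ∃ w : A, w ∉ (inn hA).range := by
    by_contra hcon
    push Not at hcon
    rw [(eq_top_iff' _).2 hcon, index_top] at hi
    omega
  obtain ⟨χ, g1, g2, g3, g4⟩ := exists_good (inn hA).range hi hperfD hp2 hM
    (H493.RatB.mem_principalBlock_comp e.symm h1)
    (by
      show ¬ p ∣ charDegree (fun x => (θ : S → ℂ) (e.symm x))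
      rwa [charDegree_comp])
    (Cyc.comp e.symm h4)
    (by
      show Odd (charDegree (fun x => (θ : S → ℂ) (e.symm x)))
      rwa [charDegree_comp]) hw
  have hidx : ¬ p ∣ (inn hA).range.index := by
    rw [hi]
    intro h
    exact hp2 ((Nat.prime_dvd_prime_iff_eq hp.out Nat.prime_two).1 h)
  refine ⟨χ, witA_of_good hM hA hz hidx g1 g2 g3 fun θ' => ?_⟩
  rcases g4 with g4 | ⟨g4, g5⟩
  · have hres : (fun s => (χ : A → ℂ) (inn hA s)) = (θ : S → ℂ) := by
      funext s
      rw [← he, g4]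
      exact hθe s
    rw [hres]
    rcases inner_cases θ.2 θ'.2 with h | h
    · exact Or.inl h.1
    · refine Or.inr ⟨h.1, ?_, ?_⟩
      · rw [← h.2]; exact h2
      · rw [← h.2]; exact h4
  · set θw : S → ℂ := fun s => (θ : S → ℂ) ((w : MulAut S) s) with hθw
    have hwirr : IsIrrCharacter S θw := isIrr_comp ((w : MulAut S) : S →* S) (w : MulAut S).surjective θ.2
    have hcn : ∀ s, MulAut.conjNormal w (e s) = e ((w : MulAut S) s) := fun s => by
      apply Subtype.ext
      show w * inn hA s * w⁻¹ = inn hA ((w : MulAut S) s)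
      exact conj_inn hA w s
    have hne : (θ : S → ℂ) ≠ θw := by
      intro h
      apply g4
      funext d
      obtain ⟨s, rfl⟩ := e.surjective d
      show (θD : (inn hA).range → ℂ) (MulAut.conjNormal w (e s)) = (θD : (inn hA).range → ℂ) (e s)
      rw [hcn, hθe, hθe]
      exact (congrFun h s).symm
    have hres : (fun s => (χ : A → ℂ) (inn hA s)) = (θ : S → ℂ) + θw := by
      funext s
      rw [← he, g5, hcn, hθe, hθe]
      rfl
    have hwc : Cyc p θw := Cyc.comp (w : MulAut S) h4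
    have hw1 : θw ≠ fun _ => 1 := ne_one_comp (w : MulAut S) h2
    rw [hres, classInner_add_left]
    rcases inner_cases θ.2 θ'.2 with h | h
    · rcases inner_cases hwirr θ'.2 with h' | h'
      · left
        rw [h.1, h'.1, add_zero]
      · refine Or.inr ⟨by rw [h.1, h'.1, zero_add], ?_, ?_⟩
        · rw [← h'.2]; exact hw1
        · rw [← h'.2]; exact hwc
    · rcases inner_cases hwirr θ'.2 with h' | h'
      · refine Or.inr ⟨by rw [h.1, h'.1, add_zero], ?_, ?_⟩
        · rw [← h.2]; exact h2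
        · rw [← h.2]; exact h4
      · exact absurd (h.2.trans h'.2.symm) hne

end aut

theorem center_eq_bot {S : Type u} [Group S] [IsSimpleGroup S] (hna : ¬ IsMulCommutative S) : center S = ⊥ := by
  rcases (inferInstance : (center S).Normal).eq_bot_or_eq_top with h | h
  · exact h
  · exfalso
    apply hna
    exact ⟨⟨fun a b => (mem_center_iff.1 (by rw [h]; exact mem_top b) a)⟩⟩

theorem commutator_eq_top {S : Type u} [Group S] [IsSimpleGroup S] (hna : ¬ IsMulCommutative S) : commutator S = ⊤ := by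
  rcases (inferInstance : (commutator S).Normal).eq_bot_or_eq_top with h | h
  · exfalso
    apply hna
    refine ⟨⟨fun a b => ?_⟩⟩
    have h1 : ⁅a, b⁆ ∈ commutator S := commutator_mem_commutator (mem_top a) (mem_top b)
    rw [h, mem_bot, commutatorElement_eq_one_iff_mul_comm] at h1
    exact h1
  · exact h

theorem index_inn {S : Type u} [Group S] {A : Subgroup (MulAut S)} (hA : ∀ s : S, MulAut.conj s ∈ A) :
    (inn hA).range.index * A.index = (MulAut.conj : S →* MulAut S).range.index := by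
  have h1 : (MulAut.conj : S →* MulAut S).range ≤ A := by
    rintro _ ⟨s, rfl⟩
    exact hA s
  have h2 : (inn hA).range = (MulAut.conj : S →* MulAut S).range.subgroupOf A := by
    ext a
    rw [mem_subgroupOf]
    constructor
    · rintro ⟨s, rfl⟩
      exact ⟨s, rfl⟩
    · rintro ⟨s, hs⟩
      exact ⟨s, Subtype.ext hs⟩
  rw [h2]
  exact relIndex_mul_index h1

/-- **The row for `|Out S| = 1`** -/
theorem WitC.rowA {p : ℕ} [hp : Fact p.Prime] {S : Type u} [Group S] [Fintype S] [IsSimpleGroup S]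
    (hna : ¬ IsMulCommutative S) (hout : (MulAut.conj : S →* MulAut S).range.index = 1) (h : WitC p S) : RowA p S := by
  intro A hA M hM
  obtain ⟨θ, h1, h2, h3, h4⟩ := h M hM
  have h5 := index_inn hA.1
  rw [hout] at h5
  have h6 : (inn hA.1).range = ⊤ := index_eq_one.1 (Nat.eq_one_of_mul_eq_one_right h5)
  exact witA_of_inner hM hA.1 (center_eq_bot hna) (MonoidHom.range_eq_top.1 h6) h1 h2 h3 h4

/-- **The row for `|Out S| ≤ 2`** -/
theorem WitO.rowA {p : ℕ} [hp : Fact p.Prime] (hp2 : p ≠ 2) {S : Type u} [Group S] [Fintype S] [IsSimpleGroup S]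
    (hna : ¬ IsMulCommutative S) (hout : (MulAut.conj : S →* MulAut S).range.index ≤ 2) (h : WitO p S) : RowA p S := by
  intro A hA M hM
  have : Finite (MulAut S) := inferInstance
  obtain ⟨θ, h1, h2, h3, h4, h5⟩ := h M hM
  have h6 := index_inn hA.1
  have h7 : (inn hA.1).range.index ≠ 0 := index_ne_zero_of_finite
  have h8 : A.index ≠ 0 := index_ne_zero_of_finite
  have h9 : (inn hA.1).range.index ≤ 2 := by
    calc (inn hA.1).range.index ≤ (inn hA.1).range.index * A.index := Nat.le_mul_of_pos_right _ (Nat.pos_of_ne_zero h8)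
      _ ≤ 2 := by rw [h6]; exact hout
  have h10 : (inn hA.1).range.index = 1 ∨ (inn hA.1).range.index = 2 := by omega
  rcases h10 with h10 | h10
  · exact witA_of_inner hM hA.1 (center_eq_bot hna) (MonoidHom.range_eq_top.1 (index_eq_one.1 h10)) h1 h2 h3 h5
  · exact witA_of_two (commutator_eq_top hna) hp2 hM hA.1 (center_eq_bot hna) h10 h1 h2 h3 h5 h4

/-- rational values are `ℚ(ζ_p)`-values -/
theorem cyc_of_ratV {p : ℕ} {G : Type u} [Group G] [Finite G] {χ : G → ℂ} (hχ : IsCharacter G χ)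
    (h : H493.RatB.RatV χ) : Cyc p χ := by
  intro k hk _ g
  obtain ⟨σ, hσ⟩ := exists_sigma hk
  obtain ⟨q, hq⟩ := h g
  rw [← hσ hχ, hq]
  exact map_ratCast σ q

theorem WitOR.witO {p : ℕ} {S : Type u} [Group S] [Finite S] (h : WitOR p S) : WitO p S := fun M hM => by
  obtain ⟨θ, h1, h2, h3, h4, h5⟩ := h M hM
  exact ⟨θ, h1, h2, h3, h4, cyc_of_ratV (isIrr_isCharacter θ.2) h5⟩

theorem witC_of_witR {p : ℕ} {S : Type u} [Group S] [Finite S] (h : H493.RatB.WitR p S) : WitC p S := fun M hM => by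
  obtain ⟨θ, h1, h2, h3, h5⟩ := h M hM
  exact ⟨θ, h1, h2, h3, cyc_of_ratV (isIrr_isCharacter θ.2) h5⟩

end Cfsg.Agent.H629.CY
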