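import Cfsg.Agent.H629.CY.Core
import Cfsg.Agent.H776.CY.Noncyc
import Cfsg.Agent.H498.SporOut
import Cfsg.Agent.H852.IMSuz
import Cfsg.Agent.NotCT.Orders

/-!
# S4829: the rows of the sporadic groups with `|Out S| = 2`, non-cyclic Sylow subgroups (helper629)

`Rows2` : the rows, one for each pair;  `Rows2.rowA` : the row `RowA p S` when `p ^ 2` divides `|S|`.
-/

set_option autoImplicit false
set_option maxRecDepth 100000

namespace Cfsg.Agent.H629.CY.Asm

open Cfsg Cfsg.Agent.H770.CY Cfsg.Agent.H629.CY Cfsg.Agent.H776.CY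

theorem sq_dvd_of_noncyc {p : ℕ} [hp : Fact p.Prime] {S : Type*} [Group S] [Finite S]
    (hc : ∀ Q : Sylow p S, ¬ IsCyclic Q) : p ^ 2 ∣ Nat.card S := by
  obtain ⟨Q⟩ : Nonempty (Sylow p S) := inferInstance
  obtain ⟨k, hk⟩ := IsPGroup.iff_card.1 Q.isPGroup'
  have h1 : p ^ k ∣ Nat.card S := by
    rw [← hk]
    exact (Q : Subgroup S).card_subgroup_dvd_card
  have h2 : 2 ≤ k := by
    by_contra h
    have h3 : k = 0 ∨ k = 1 := by omega
    rcases h3 with rfl | rfl
    · apply hc Q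
      rw [pow_zero] at hk
      have := (Nat.card_eq_one_iff_unique.1 hk).1
      exact isCyclic_of_subsingleton
    · rw [pow_one] at hk
      exact hc Q (isCyclic_of_prime_card hk)
  exact (pow_dvd_pow p h2).trans h1

/-- the rows of the pairs (universe 0) -/
structure Rows2 : Prop where
  m12_3 : ∀ (S : Type) [Group S] [Fintype S] [IsSimpleGroup S], ¬ IsMulCommutative S → Spor.IsoM12 S → RowA 3 S
  m22_3 : ∀ (S : Type) [Group S] [Fintype S] [IsSimpleGroup S], ¬ IsMulCommutative S → Spor.IsoM22 S → RowA 3 S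
  j2_3 : ∀ (S : Type) [Group S] [Fintype S] [IsSimpleGroup S], ¬ IsMulCommutative S → Spor.IsoJ2 S → RowA 3 S
  j2_5 : ∀ (S : Type) [Group S] [Fintype S] [IsSimpleGroup S], ¬ IsMulCommutative S → Spor.IsoJ2 S → RowA 5 S
  j3_3 : ∀ (S : Type) [Group S] [Fintype S] [IsSimpleGroup S], ¬ IsMulCommutative S → Spor.IsoJ3 S → RowA 3 S
  hs_3 : ∀ (S : Type) [Group S] [Fintype S] [IsSimpleGroup S], ¬ IsMulCommutative S → Spor.IsoHS S → RowA 3 S
  hs_5 : ∀ (S : Type) [Group S] [Fintype S] [IsSimpleGroup S], ¬ IsMulCommutative S → Spor.IsoHS S → RowA 5 S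
  mcl_3 : ∀ (S : Type) [Group S] [Fintype S] [IsSimpleGroup S], ¬ IsMulCommutative S → Spor.IsoMcL S → RowA 3 S
  mcl_5 : ∀ (S : Type) [Group S] [Fintype S] [IsSimpleGroup S], ¬ IsMulCommutative S → Spor.IsoMcL S → RowA 5 S
  suz_3 : ∀ (S : Type) [Group S] [Fintype S] [IsSimpleGroup S], ¬ IsMulCommutative S → Spor.IsoSuz S → RowA 3 S
  suz_5 : ∀ (S : Type) [Group S] [Fintype S] [IsSimpleGroup S], ¬ IsMulCommutative S → Spor.IsoSuz S → RowA 5 S
  he_3 : ∀ (S : Type) [Group S] [Fintype S] [IsSimpleGroup S], ¬ IsMulCommutative S → Spor.IsoHe S → RowA 3 S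
  he_5 : ∀ (S : Type) [Group S] [Fintype S] [IsSimpleGroup S], ¬ IsMulCommutative S → Spor.IsoHe S → RowA 5 S
  he_7 : ∀ (S : Type) [Group S] [Fintype S] [IsSimpleGroup S], ¬ IsMulCommutative S → Spor.IsoHe S → RowA 7 S
  on_3 : ∀ (S : Type) [Group S] [Fintype S] [IsSimpleGroup S], ¬ IsMulCommutative S → Spor.IsoON S → RowA 3 S
  on_7 : ∀ (S : Type) [Group S] [Fintype S] [IsSimpleGroup S], ¬ IsMulCommutative S → Spor.IsoON S → RowA 7 S
  fi22_3 : ∀ (S : Type) [Group S] [Fintype S] [IsSimpleGroup S], ¬ IsMulCommutative S → Spor.IsoFi22 S → RowA 3 S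
  fi22_5 : ∀ (S : Type) [Group S] [Fintype S] [IsSimpleGroup S], ¬ IsMulCommutative S → Spor.IsoFi22 S → RowA 5 S
  fi24_3 : ∀ (S : Type) [Group S] [Fintype S] [IsSimpleGroup S], ¬ IsMulCommutative S → Spor.IsoFi24' S → RowA 3 S
  fi24_5 : ∀ (S : Type) [Group S] [Fintype S] [IsSimpleGroup S], ¬ IsMulCommutative S → Spor.IsoFi24' S → RowA 5 S
  fi24_7 : ∀ (S : Type) [Group S] [Fintype S] [IsSimpleGroup S], ¬ IsMulCommutative S → Spor.IsoFi24' S → RowA 7 S
  hn_3 : ∀ (S : Type) [Group S] [Fintype S] [IsSimpleGroup S], ¬ IsMulCommutative S → Spor.IsoHN S → RowA 3 S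
  hn_5 : ∀ (S : Type) [Group S] [Fintype S] [IsSimpleGroup S], ¬ IsMulCommutative S → Spor.IsoHN S → RowA 5 S

theorem row_m12 (R : Rows2) {p : ℕ} [hp : Fact p.Prime] (h2 : p ≠ 2) {S : Type} [Group S] [Fintype S]
    [IsSimpleGroup S] (hna : ¬ IsMulCommutative S) (hd : p ∣ Nat.card S) (hd2 : p ^ 2 ∣ Nat.card S) (h : Spor.IsoM12 S) :
    RowA p S := by
  have hc : Nat.card S = 95040 := NotCT.Orders.m12 h
  have hm : p ∈ [2, 3, 5, 11] :=
    H852.IMSuz.prime_cases' hp.out [2, 3, 5, 11] (by decide) 6 (n := Nat.card S) hd (by rw [hc]; norm_num)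
  simp only [List.mem_cons, List.not_mem_nil, or_false] at hm
  rcases hm with rfl | rfl | rfl | rfl
  · exact absurd rfl h2
  · exact R.m12_3 S hna h
  · exact absurd hd2 (by rw [hc]; norm_num)
  · exact absurd hd2 (by rw [hc]; norm_num)

theorem row_m22 (R : Rows2) {p : ℕ} [hp : Fact p.Prime] (h2 : p ≠ 2) {S : Type} [Group S] [Fintype S]
    [IsSimpleGroup S] (hna : ¬ IsMulCommutative S) (hd : p ∣ Nat.card S) (hd2 : p ^ 2 ∣ Nat.card S) (h : Spor.IsoM22 S) :
    RowA p S := by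
  have hc : Nat.card S = 443520 := NotCT.Orders.m22 h
  have hm : p ∈ [2, 3, 5, 7, 11] :=
    H852.IMSuz.prime_cases' hp.out [2, 3, 5, 7, 11] (by decide) 7 (n := Nat.card S) hd (by rw [hc]; norm_num)
  simp only [List.mem_cons, List.not_mem_nil, or_false] at hm
  rcases hm with rfl | rfl | rfl | rfl | rfl
  · exact absurd rfl h2
  · exact R.m22_3 S hna h
  · exact absurd hd2 (by rw [hc]; norm_num)
  · exact absurd hd2 (by rw [hc]; norm_num)
  · exact absurd hd2 (by rw [hc]; norm_num)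

theorem row_j2 (R : Rows2) {p : ℕ} [hp : Fact p.Prime] (h2 : p ≠ 2) {S : Type} [Group S] [Fintype S]
    [IsSimpleGroup S] (hna : ¬ IsMulCommutative S) (hd : p ∣ Nat.card S) (hd2 : p ^ 2 ∣ Nat.card S) (h : Spor.IsoJ2 S) :
    RowA p S := by
  have hc : Nat.card S = 604800 := NotCT.Orders.j2 h
  have hm : p ∈ [2, 3, 5, 7] :=
    H852.IMSuz.prime_cases' hp.out [2, 3, 5, 7] (by decide) 7 (n := Nat.card S) hd (by rw [hc]; norm_num)
  simp only [List.mem_cons, List.not_mem_nil, or_false] at hm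
  rcases hm with rfl | rfl | rfl | rfl
  · exact absurd rfl h2
  · exact R.j2_3 S hna h
  · exact R.j2_5 S hna h
  · exact absurd hd2 (by rw [hc]; norm_num)

theorem row_j3 (R : Rows2) {p : ℕ} [hp : Fact p.Prime] (h2 : p ≠ 2) {S : Type} [Group S] [Fintype S]
    [IsSimpleGroup S] (hna : ¬ IsMulCommutative S) (hd : p ∣ Nat.card S) (hd2 : p ^ 2 ∣ Nat.card S) (h : Spor.IsoJ3 S) :
    RowA p S := by
  have hc : Nat.card S = 50232960 := NotCT.Orders.j3 h
  have hm : p ∈ [2, 3, 5, 17, 19] :=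
    H852.IMSuz.prime_cases' hp.out [2, 3, 5, 17, 19] (by decide) 7 (n := Nat.card S) hd (by rw [hc]; norm_num)
  simp only [List.mem_cons, List.not_mem_nil, or_false] at hm
  rcases hm with rfl | rfl | rfl | rfl | rfl
  · exact absurd rfl h2
  · exact R.j3_3 S hna h
  · exact absurd hd2 (by rw [hc]; norm_num)
  · exact absurd hd2 (by rw [hc]; norm_num)
  · exact absurd hd2 (by rw [hc]; norm_num)

theorem row_hs (R : Rows2) {p : ℕ} [hp : Fact p.Prime] (h2 : p ≠ 2) {S : Type} [Group S] [Fintype S]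
    [IsSimpleGroup S] (hna : ¬ IsMulCommutative S) (hd : p ∣ Nat.card S) (hd2 : p ^ 2 ∣ Nat.card S) (h : Spor.IsoHS S) :
    RowA p S := by
  have hc : Nat.card S = 44352000 := NotCT.Orders.hs h
  have hm : p ∈ [2, 3, 5, 7, 11] :=
    H852.IMSuz.prime_cases' hp.out [2, 3, 5, 7, 11] (by decide) 9 (n := Nat.card S) hd (by rw [hc]; norm_num)
  simp only [List.mem_cons, List.not_mem_nil, or_false] at hm
  rcases hm with rfl | rfl | rfl | rfl | rfl
  · exact absurd rfl h2
  · exact R.hs_3 S hna h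
  · exact R.hs_5 S hna h
  · exact absurd hd2 (by rw [hc]; norm_num)
  · exact absurd hd2 (by rw [hc]; norm_num)

theorem row_mcl (R : Rows2) {p : ℕ} [hp : Fact p.Prime] (h2 : p ≠ 2) {S : Type} [Group S] [Fintype S]
    [IsSimpleGroup S] (hna : ¬ IsMulCommutative S) (hd : p ∣ Nat.card S) (hd2 : p ^ 2 ∣ Nat.card S) (h : Spor.IsoMcL S) :
    RowA p S := by
  have hc : Nat.card S = 898128000 := NotCT.Orders.mcl h
  have hm : p ∈ [2, 3, 5, 7, 11] :=
    H852.IMSuz.prime_cases' hp.out [2, 3, 5, 7, 11] (by decide) 7 (n := Nat.card S) hd (by rw [hc]; norm_num)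
  simp only [List.mem_cons, List.not_mem_nil, or_false] at hm
  rcases hm with rfl | rfl | rfl | rfl | rfl
  · exact absurd rfl h2
  · exact R.mcl_3 S hna h
  · exact R.mcl_5 S hna h
  · exact absurd hd2 (by rw [hc]; norm_num)
  · exact absurd hd2 (by rw [hc]; norm_num)

theorem row_suz (R : Rows2) {p : ℕ} [hp : Fact p.Prime] (h2 : p ≠ 2) {S : Type} [Group S] [Fintype S]
    [IsSimpleGroup S] (hna : ¬ IsMulCommutative S) (hd : p ∣ Nat.card S) (hd2 : p ^ 2 ∣ Nat.card S) (h : Spor.IsoSuz S) :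
    RowA p S := by
  have hc : Nat.card S = 448345497600 := NotCT.Orders.suz h
  have hm : p ∈ [2, 3, 5, 7, 11, 13] :=
    H852.IMSuz.prime_cases' hp.out [2, 3, 5, 7, 11, 13] (by decide) 13 (n := Nat.card S) hd (by rw [hc]; norm_num)
  simp only [List.mem_cons, List.not_mem_nil, or_false] at hm
  rcases hm with rfl | rfl | rfl | rfl | rfl | rfl
  · exact absurd rfl h2
  · exact R.suz_3 S hna h
  · exact R.suz_5 S hna h
  · exact absurd hd2 (by rw [hc]; norm_num)
  · exact absurd hd2 (by rw [hc]; norm_num)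
  · exact absurd hd2 (by rw [hc]; norm_num)

theorem row_he (R : Rows2) {p : ℕ} [hp : Fact p.Prime] (h2 : p ≠ 2) {S : Type} [Group S] [Fintype S]
    [IsSimpleGroup S] (hna : ¬ IsMulCommutative S) (hd : p ∣ Nat.card S) (hd2 : p ^ 2 ∣ Nat.card S) (h : Spor.IsoHe S) :
    RowA p S := by
  have hc : Nat.card S = 4030387200 := NotCT.Orders.he h
  have hm : p ∈ [2, 3, 5, 7, 17] :=
    H852.IMSuz.prime_cases' hp.out [2, 3, 5, 7, 17] (by decide) 10 (n := Nat.card S) hd (by rw [hc]; norm_num)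
  simp only [List.mem_cons, List.not_mem_nil, or_false] at hm
  rcases hm with rfl | rfl | rfl | rfl | rfl
  · exact absurd rfl h2
  · exact R.he_3 S hna h
  · exact R.he_5 S hna h
  · exact R.he_7 S hna h
  · exact absurd hd2 (by rw [hc]; norm_num)

theorem row_on (R : Rows2) {p : ℕ} [hp : Fact p.Prime] (h2 : p ≠ 2) {S : Type} [Group S] [Fintype S]
    [IsSimpleGroup S] (hna : ¬ IsMulCommutative S) (hd : p ∣ Nat.card S) (hd2 : p ^ 2 ∣ Nat.card S) (h : Spor.IsoON S) :
    RowA p S := by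
  have hc : Nat.card S = 460815505920 := NotCT.Orders.on h
  have hm : p ∈ [2, 3, 5, 7, 11, 19, 31] :=
    H852.IMSuz.prime_cases' hp.out [2, 3, 5, 7, 11, 19, 31] (by decide) 9 (n := Nat.card S) hd (by rw [hc]; norm_num)
  simp only [List.mem_cons, List.not_mem_nil, or_false] at hm
  rcases hm with rfl | rfl | rfl | rfl | rfl | rfl | rfl
  · exact absurd rfl h2
  · exact R.on_3 S hna h
  · exact absurd hd2 (by rw [hc]; norm_num)
  · exact R.on_7 S hna h
  · exact absurd hd2 (by rw [hc]; norm_num)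
  · exact absurd hd2 (by rw [hc]; norm_num)
  · exact absurd hd2 (by rw [hc]; norm_num)

theorem row_fi22 (R : Rows2) {p : ℕ} [hp : Fact p.Prime] (h2 : p ≠ 2) {S : Type} [Group S] [Fintype S]
    [IsSimpleGroup S] (hna : ¬ IsMulCommutative S) (hd : p ∣ Nat.card S) (hd2 : p ^ 2 ∣ Nat.card S) (h : Spor.IsoFi22 S) :
    RowA p S := by
  have hc : Nat.card S = 64561751654400 := NotCT.Orders.fi22 h
  have hm : p ∈ [2, 3, 5, 7, 11, 13] :=
    H852.IMSuz.prime_cases' hp.out [2, 3, 5, 7, 11, 13] (by decide) 17 (n := Nat.card S) hd (by rw [hc]; norm_num)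
  simp only [List.mem_cons, List.not_mem_nil, or_false] at hm
  rcases hm with rfl | rfl | rfl | rfl | rfl | rfl
  · exact absurd rfl h2
  · exact R.fi22_3 S hna h
  · exact R.fi22_5 S hna h
  · exact absurd hd2 (by rw [hc]; norm_num)
  · exact absurd hd2 (by rw [hc]; norm_num)
  · exact absurd hd2 (by rw [hc]; norm_num)

theorem row_fi24 (R : Rows2) {p : ℕ} [hp : Fact p.Prime] (h2 : p ≠ 2) {S : Type} [Group S] [Fintype S]
    [IsSimpleGroup S] (hna : ¬ IsMulCommutative S) (hd : p ∣ Nat.card S) (hd2 : p ^ 2 ∣ Nat.card S) (h : Spor.IsoFi24' S) :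
    RowA p S := by
  have hc : Nat.card S = 1255205709190661721292800 := NotCT.Orders.fi24 h
  have hm : p ∈ [2, 3, 5, 7, 11, 13, 17, 23, 29] :=
    H852.IMSuz.prime_cases' hp.out [2, 3, 5, 7, 11, 13, 17, 23, 29] (by decide) 21 (n := Nat.card S) hd (by rw [hc]; norm_num)
  simp only [List.mem_cons, List.not_mem_nil, or_false] at hm
  rcases hm with rfl | rfl | rfl | rfl | rfl | rfl | rfl | rfl | rfl
  · exact absurd rfl h2
  · exact R.fi24_3 S hna h
  · exact R.fi24_5 S hna h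
  · exact R.fi24_7 S hna h
  · exact absurd hd2 (by rw [hc]; norm_num)
  · exact absurd hd2 (by rw [hc]; norm_num)
  · exact absurd hd2 (by rw [hc]; norm_num)
  · exact absurd hd2 (by rw [hc]; norm_num)
  · exact absurd hd2 (by rw [hc]; norm_num)

theorem row_hn (R : Rows2) {p : ℕ} [hp : Fact p.Prime] (h2 : p ≠ 2) {S : Type} [Group S] [Fintype S]
    [IsSimpleGroup S] (hna : ¬ IsMulCommutative S) (hd : p ∣ Nat.card S) (hd2 : p ^ 2 ∣ Nat.card S) (h : Spor.IsoHN S) :
    RowA p S := by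
  have hc : Nat.card S = 273030912000000 := NotCT.Orders.hn h
  have hm : p ∈ [2, 3, 5, 7, 11, 19] :=
    H852.IMSuz.prime_cases' hp.out [2, 3, 5, 7, 11, 19] (by decide) 14 (n := Nat.card S) hd (by rw [hc]; norm_num)
  simp only [List.mem_cons, List.not_mem_nil, or_false] at hm
  rcases hm with rfl | rfl | rfl | rfl | rfl | rfl
  · exact absurd rfl h2
  · exact R.hn_3 S hna h
  · exact R.hn_5 S hna h
  · exact absurd hd2 (by rw [hc]; norm_num)
  · exact absurd hd2 (by rw [hc]; norm_num)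
  · exact absurd hd2 (by rw [hc]; norm_num)

end Cfsg.Agent.H629.CY.Asm
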