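import Cfsg.Agent.H528.RatB.HeFive
import Cfsg.Agent.H517.CY.Cent

/-!
# S4829, `He`, `p = 5` (helper629)

The parity tool of helper517; the classes are helper528's `Q_all`.
-/

set_option autoImplicit false
set_option maxRecDepth 100000

open Subgroup

namespace Cfsg.Agent.H629.CY.HeF

open Cfsg.Agent.SporadicB.HePerm (wd)
open Cfsg.Agent.FixBN.HeStab Cfsg.Agent.KFacts.He.Lv Cfsg.Agent.CpAutHe.Cnt
open Cfsg.Agent.H235.Ore.HeEng Cfsg.Agent.H235.Ore.HeCert Cfsg.Agent.H235.Ore.He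
open Cfsg.Agent.H528.RatB.HeFive Cfsg.Agent.H517.CY

theorem seven : ∀ m ∈ Nat.divisors 84, 7 ∣ m → chk 5 3 m (37 % m) = true := by decide +kernel

theorem rest : ∀ m ∈ Nat.divisors 2040, Nat.totient m ∣ 2 ^ 9 := by decide +kernel

theorem good (g : Cfsg.Spor.He) : Good 5 g := by
  obtain ⟨h1, h2⟩ := Q_all g
  by_cases h7 : 7 ∣ orderOf g
  · obtain ⟨h3, h4⟩ := h2 h7
    refine Or.inr ⟨3, 37 % orderOf g, ?_, seven _ (Nat.mem_divisors.2 ⟨h3, by norm_num⟩) h7⟩
    rwa [pow_mod_orderOf]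
  · have h5 : Nat.Coprime (orderOf g) 7 := ((Nat.Prime.coprime_iff_not_dvd (by norm_num)).2 h7).symm
    have h6 : orderOf g ∣ 2040 := h5.dvd_of_dvd_mul_right (show orderOf g ∣ 2040 * 7 from h1)
    exact Or.inl ⟨9, rest _ (Nat.mem_divisors.2 ⟨h6, by norm_num⟩)⟩

theorem witO_model : H629.CY.WitO 5 Cfsg.Spor.He := by
  have : Finite Cfsg.Spor.He := finite_he
  have : Fact (Nat.Prime 5) := ⟨by norm_num⟩
  exact witO (x := wd x5A) (by rw [card_he]; norm_num) (by rw [o5A]) (int_of_conj fun m hm => ratEl_he m hm) good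

/-- **`(He, 5)`.** -/
theorem witO_he_five {S : Type*} [Group S] (h : Cfsg.Spor.IsoHe S) : H629.CY.WitO 5 S := by
  obtain ⟨e⟩ := h
  have : Finite Cfsg.Spor.He := finite_he
  have : Finite S := Finite.of_equiv _ e.symm.toEquiv
  exact witO_congr e witO_model

end Cfsg.Agent.H629.CY.HeF
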