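import Cfsg.Agent.H629.CY.Defs
import Cfsg.Agent.H656.OverPrincipal
import Cfsg.Agent.HKS.CosetTwo
import Cfsg.Agent.CharactersDeep.ExtUnique
import Cfsg.Agent.CharactersDeep.CliffordSum
import Cfsg.Agent.OddOrderCharacters.GaloisTwist
import Cfsg.Agent.H700.PRat

/-!
# S4829: characters over a normal subgroup of index two (helper629)

`D` of index two in `W`, `θ ∈ Irr D`, `χ ∈ Irr W` over `θ`.

* `res_of_vanish` : `χ` vanishes off `D`: `χ = θ + θ^w` on `D`, `θ^w ≠ θ` for `w ∉ D`;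
* `res_of_not_vanish` : otherwise `χ = θ` on `D`;
* `cyc_of_odd` : `D` perfect, `χ = θ` on `D`, `θ (1)` odd, `θ` with values in `ℚ(ζ_p)`: the same for `χ`.
-/

set_option autoImplicit false

namespace Cfsg.Agent.H629.CY

open Cfsg Cfsg.Agent.H770.CY Cfsg.Agent.Characters.Core Cfsg.Agent.Characters.Clifford
open scoped ComplexConjugate

universe u

variable {W : Type u} [Group W] [Finite W]

/-- the field automorphism behind `g ↦ g ^ k` -/
theorem exists_sigma {k : ℕ} (hk : k.Coprime (Nat.card W)) :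
    ∃ σ : ℂ ≃+* ℂ, ∀ {χ : W → ℂ}, IsCharacter W χ → ∀ g, σ (χ g) = χ (g ^ k) := by
  obtain ⟨σ, hσ⟩ := Cfsg.Agent.Characters.Galois.exists_ringEquiv_complex Nat.card_pos.ne' hk
  exact ⟨σ, fun h g => OddOrderCharacters.GaloisTwist.map_apply σ Nat.card_pos.ne' hσ h g pow_card_eq_one'⟩

theorem detChar_eq_one {N : Type u} [Group N] [Finite N] (hperf : commutator N = ⊤) {θ : N → ℂ}
    (hθ : IsIrrCharacter N θ) (n : N) : detChar θ n = 1 := by
  obtain ⟨δ, hδ⟩ := CharactersDeep.ExtUnique.exists_hom_detChar hθ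
  have h1 : n ∈ δ.ker := by
    have h2 : commutator N ≤ δ.ker := Abelianization.commutator_subset_ker δ
    exact h2 (by rw [hperf]; exact Subgroup.mem_top n)
  rw [hδ, MonoidHom.mem_ker.1 h1, Units.val_one]

/-- **the determinant trick** -/
theorem cyc_of_odd {p : ℕ} (D : Subgroup W) [D.Normal] (hD : D.index = 2) (hperf : commutator D = ⊤)
    {χ : IrrCharacter W} {θ : IrrCharacter D} (hres : ∀ d : D, (χ : W → ℂ) d = (θ : D → ℂ) d)
    (hodd : Odd (charDegree (θ : D → ℂ))) (hc : Cyc p (θ : D → ℂ)) : Cyc p (χ : W → ℂ) := by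
  intro k hk hkp g
  obtain ⟨σ, hσ⟩ := exists_sigma hk
  have hχ := isIrr_isCharacter χ.2
  have hkD : k.Coprime (Nat.card D) := hk.coprime_dvd_right (Subgroup.card_subgroup_dvd_card D)
  have hχ' : IsIrrCharacter W (fun g => σ ((χ : W → ℂ) g)) := OddOrderCharacters.GaloisTwist.isIrrCharacter_map σ χ.2
  obtain ⟨β, hβD, hβ⟩ := CharactersDeep.ExtUnique.exists_hom_mul_of_restrict_eq D hχ (isIrr_isCharacter hχ') θ.2 hres
    (fun n => by
      show σ ((χ : W → ℂ) n) = _
      rw [hσ hχ, ← hc k hkD hkp n, ← hres]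
      rfl)
  obtain ⟨δ, hδ⟩ := CharactersDeep.ExtUnique.exists_hom_detChar χ.2
  have hδD : ∀ d : D, δ d = 1 := fun d => by
    apply Units.ext
    rw [Units.val_one, ← hδ, CharactersDeep.ExtUnique.detChar_restrict D χ.2 θ.2 hres, detChar_eq_one hperf θ.2]
  have hsq : ∀ x : W, x ^ 2 ∈ D := fun x => by
    rw [← hD]
    exact D.pow_index_mem x
  have hδ2 : ∀ x, δ x ^ 2 = 1 := fun x => by
    rw [← map_pow]
    exact hδD ⟨x ^ 2, hsq x⟩
  have hσδ : ∀ x, σ ((δ x : ℂˣ) : ℂ) = ((δ x : ℂˣ) : ℂ) := fun x => by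
    have h1 : ((δ x : ℂˣ) : ℂ) ^ 2 = 1 := by rw [← Units.val_pow_eq_pow_val, hδ2, Units.val_one]
    rcases (mul_self_eq_one_iff (a := ((δ x : ℂˣ) : ℂ))).1 (by rw [← pow_two]; exact h1) with h | h
    · rw [h, map_one]
    · rw [h, map_neg, map_one]
  have hdeg : (χ : W → ℂ) 1 = ((charDegree (χ : W → ℂ) : ℕ) : ℂ) := Blocks.Basic.irr_one_eq_charDegree χ.2
  have hdeg' : charDegree (χ : W → ℂ) = charDegree (θ : D → ℂ) := by
    have h1 := Blocks.Basic.irr_one_eq_charDegree θ.2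
    have h2 := hres 1
    rw [OneMemClass.coe_one, hdeg, h1] at h2
    exact_mod_cast h2
  -- compare the determinants
  have h3 : ∀ x, δ x = δ x * β x ^ charDegree (θ : D → ℂ) := fun x => by
    have h4 := H700.PRat.detChar_map σ χ.2 x
    have h5 : (fun g => σ ((χ : W → ℂ) g)) = fun g => (χ : W → ℂ) g * ((β g : ℂˣ) : ℂ) := funext hβ
    rw [h5, CharactersDeep.ExtUnique.detChar_mul_hom χ.2 hdeg β] at h4
    simp only [hδ] at h4
    rw [hσδ, hdeg'] at h4
    apply Units.ext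
    rw [Units.val_mul, Units.val_pow_eq_pow_val, h4]
  have h6 : ∀ x, β x = 1 := fun x => by
    have h7 : β x ^ charDegree (θ : D → ℂ) = 1 := by
      have := h3 x
      rwa [left_eq_mul] at this
    have h8 : β x ^ 2 = 1 := by
      rw [← map_pow]
      exact hβD _ (hsq x)
    have h9 : orderOf (β x) ∣ 1 := by
      have h10 := Nat.dvd_gcd (orderOf_dvd_of_pow_eq_one h8) (orderOf_dvd_of_pow_eq_one h7)
      rwa [Nat.Coprime.gcd_eq_one (Nat.coprime_two_left.2 hodd)] at h10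
    exact orderOf_eq_one_iff.1 (Nat.dvd_one.1 h9)
  have h11 := hβ g
  rw [h6, Units.val_one, mul_one, hσ hχ] at h11
  exact h11

/-- the conjugate of `θ` by `w` -/
theorem image_subset (D : Subgroup W) [hDn : D.Normal] (hD : D.index = 2) (θ : IrrCharacter D) {w : W} (hw : w ∉ D) (x : W) :
    (θ : D → ℂ) ∘ (MulAut.conjNormal x : MulAut D) = (θ : D → ℂ) ∨
      (θ : D → ℂ) ∘ (MulAut.conjNormal x : MulAut D) = (θ : D → ℂ) ∘ (MulAut.conjNormal w : MulAut D) := by
  by_cases hx : x ∈ D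
  · left
    funext d
    have h1 := isIrr_isClassFunction θ.2 d ⟨x, hx⟩
    show (θ : D → ℂ) (MulAut.conjNormal x d) = _
    rw [← h1]
    congr 1
  · right
    have h2 : x * w⁻¹ ∈ D := by
      rw [Subgroup.mul_mem_iff_of_index_two hD]
      simp [hx, hw]
    have h3 : x = (x * w⁻¹) * w := by group
    funext d
    show (θ : D → ℂ) (MulAut.conjNormal x d) = (θ : D → ℂ) (MulAut.conjNormal w d)
    have h4 : MulAut.conjNormal x d = (⟨x * w⁻¹, h2⟩ : D) * MulAut.conjNormal w d * (⟨x * w⁻¹, h2⟩ : D)⁻¹ := by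
      apply Subtype.ext
      show x * (d : W) * x⁻¹ = (x * w⁻¹) * (w * d * w⁻¹) * (x * w⁻¹)⁻¹
      group
    rw [h4]
    exact isIrr_isClassFunction θ.2 (MulAut.conjNormal w d) ⟨x * w⁻¹, h2⟩

/-- **the vanishing case** -/
theorem res_of_vanish (D : Subgroup W) [hDn : D.Normal] [Fintype D] (hD : D.index = 2) {χ : IrrCharacter W} {θ : IrrCharacter D}
    (h0 : classInner (fun d : D => (χ : W → ℂ) d) (θ : D → ℂ) ≠ 0) (hv : ∀ x, x ∉ D → (χ : W → ℂ) x = 0)
    {w : W} (hw : w ∉ D) :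
    (θ : D → ℂ) ∘ (MulAut.conjNormal w : MulAut D) ≠ (θ : D → ℂ) ∧
      ∀ d : D, (χ : W → ℂ) d = (θ : D → ℂ) d + (θ : D → ℂ) (MulAut.conjNormal w d) := by
  classical
  have := Fintype.ofFinite W
  set θw : D → ℂ := (θ : D → ℂ) ∘ (MulAut.conjNormal w : MulAut D) with hθw
  -- the norm
  have hnorm : classInner (fun d : D => (χ : W → ℂ) d) (fun d : D => (χ : W → ℂ) d) = 2 := by
    have h1 : classInner (χ : W → ℂ) (χ : W → ℂ) = 1 := classInner_irr_self χ.2
    rw [classInner_def] at h1 ⊢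
    have h2 : ∑ g : W, (χ : W → ℂ) g * conj ((χ : W → ℂ) g) = ∑ d : D, (χ : W → ℂ) d * conj ((χ : W → ℂ) d) := by
      rw [← Finset.sum_filter_add_sum_filter_not Finset.univ (fun g => g ∈ D)
        (fun g => (χ : W → ℂ) g * conj ((χ : W → ℂ) g)), Finset.sum_eq_zero (s := Finset.univ.filter (fun g => ¬ g ∈ D)),
        add_zero]
      · exact Finset.sum_subtype _ (by simp) _
      · intro g hg
        rw [hv g (Finset.mem_filter.1 hg).2, zero_mul]
    have h3 : (Nat.card W : ℂ) = Nat.card D * 2 := by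
      have h4 := D.card_mul_index
      rw [hD] at h4
      rw [← h4]
      push_cast
      ring
    have h5 : (Nat.card D : ℂ) ≠ 0 := Nat.cast_ne_zero.2 Nat.card_pos.ne'
    rw [← h2]
    rw [h3] at h1
    field_simp at h1 ⊢
    rw [h1]
  obtain ⟨e, he⟩ : ∃ e : ℕ, classInner (fun d : D => (χ : W → ℂ) d) (θ : D → ℂ) = e :=
    classInner_isNat (isCharacter_restrict D (isIrr_isCharacter χ.2)) (isIrr_isCharacter θ.2)
  have he0 : e ≠ 0 := by
    rintro rfl
    exact h0 (by rw [he]; norm_num)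
  have h6 := CharactersDeep.CliffordSum.classInner_restrict_self_eq D χ.2 θ.2 he he0
  have h7 := CharactersDeep.CliffordSum.restrict_eq_smul_sum D χ.2 θ.2 h0
  set F := Finset.univ.image (fun x : W => (θ : D → ℂ) ∘ (MulAut.conjNormal x : MulAut D)) with hF
  rw [hnorm] at h6
  have h8 : e ^ 2 * F.card = 2 := by exact_mod_cast h6.symm
  have hsub : F ⊆ {(θ : D → ℂ), θw} := by
    intro ψ hψ
    obtain ⟨x, -, rfl⟩ := Finset.mem_image.1 hψ
    rcases image_subset D hD θ hw x with h | h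
    · rw [h]; exact Finset.mem_insert_self _ _
    · rw [h]; exact Finset.mem_insert_of_mem (Finset.mem_singleton_self _)
  have he1 : e = 1 := by
    have h9 : e ^ 2 ∣ 2 := ⟨_, h8.symm⟩
    have h10 : e ^ 2 ≤ 2 := Nat.le_of_dvd (by norm_num) h9
    have h11 : e < 2 := by nlinarith
    omega
  have hF2 : F.card = 2 := by rw [he1] at h8; omega
  have hne : θw ≠ (θ : D → ℂ) := by
    intro h
    have h9 := Finset.card_le_card hsub
    rw [h, Finset.pair_eq_singleton, Finset.card_singleton, hF2] at h9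
    omega
  have hFe : F = {(θ : D → ℂ), θw} := by
    apply Finset.eq_of_subset_of_card_le hsub
    rw [hF2]
    exact Finset.card_le_two
  refine ⟨hne, fun d => ?_⟩
  have h9 := congrFun h7 d
  rw [he, he1, hFe, Finset.sum_pair hne.symm, Nat.cast_one, one_smul] at h9
  exact h9

/-- **the other case** -/
theorem res_of_not_vanish (D : Subgroup W) [Fintype D] (hD : D.index = 2) {χ : IrrCharacter W} {θ : IrrCharacter D}
    (h0 : classInner (fun d : D => (χ : W → ℂ) d) (θ : D → ℂ) ≠ 0) {x : W} (hx : x ∉ D) (hv : (χ : W → ℂ) x ≠ 0) (d : D) :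
    (χ : W → ℂ) d = (θ : D → ℂ) d := by
  have h1 := HKS.CosetTwo.isIrr_restrict hD χ.2 hx hv
  by_contra h2
  apply h0
  exact classInner_irr_ne h1 θ.2 (fun h => h2 (congrFun h d))

end Cfsg.Agent.H629.CY
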